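import Groth.Agent.Lib.OrbitTop19.Descend
import Groth.Agent.Lib.DimF18.Prod
import Mathlib.AlgebraicGeometry.Morphisms.Immersion

/-!
# Dimensions of orbits and their boundaries
-/

set_option autoImplicit false
set_option linter.style.haveILetI false
set_option backward.isDefEq.respectTransparency.types false
universe u

open CategoryTheory CategoryTheory.Limits MonoidalCategory CartesianMonoidalCategory MonObj AlgebraicGeometry
open Groth.Agent.VarDim Groth.Agent.OrbitTop19

namespace Groth.Agent.OrbitDim19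

variable {k : Type u} [Field k]

/-- The dimension of a locally closed subset of a scheme of finite type over a field. -/
theorem dim_eq_iSup {X : Scheme.{u}} (f : X ⟶ Spec (CommRingCat.of k)) [LocallyOfFiniteType f] {s : Set X}
    (hs : IsLocallyClosed s) : topologicalKrullDim s = ⨆ x : s, ((sdim f (x : X) : ℕ) : WithBot ℕ∞) := by
  obtain ⟨U, C, hU, hC, rfl⟩ := hs
  let I := Scheme.IdealSheafData.vanishingIdeal ⟨C, hC⟩
  let U' : X.Opens := ⟨U, hU⟩
  let V := I.subschemeι ⁻¹ᵁ U'
  let g : (V : Scheme.{u}) ⟶ X := V.ι ≫ I.subschemeι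
  have hr : Set.range g = U ∩ C := by
    show Set.range (V.ι ≫ I.subschemeι) = _
    rw [Scheme.Hom.comp_base, TopCat.coe_comp, Set.range_comp, Scheme.Opens.range_ι]
    show I.subschemeι '' (I.subschemeι ⁻¹' U) = _
    rw [Set.image_preimage_eq_inter_range, I.range_subschemeι, Scheme.IdealSheafData.coe_support_vanishingIdeal]
    rfl
  haveI : LocallyOfFiniteType (g ≫ f) := inferInstance
  have he : Topology.IsEmbedding g := g.isEmbedding
  have h1 : topologicalKrullDim (V : Scheme.{u}) = topologicalKrullDim (U ∩ C : Set X) := by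
    rw [← hr]
    exact IsHomeomorph.topologicalKrullDim_eq _ he.toHomeomorph.isHomeomorph
  rw [← h1, dim_eq_iSup_sdim (g ≫ f)]
  refine le_antisymm (iSup_le fun v => ?_) (iSup_le fun x => ?_)
  · rw [sdim_comp_of_surjective f g v]
    exact le_iSup_of_le ⟨g v, hr ▸ ⟨v, rfl⟩⟩ le_rfl
  · obtain ⟨v, hv⟩ := (hr.symm ▸ x.2 : (x : X) ∈ Set.range g)
    refine le_iSup_of_le v ?_
    rw [sdim_comp_of_surjective f g v, hv]

theorem exists_bound {X : Scheme.{u}} (f : X ⟶ Spec (CommRingCat.of k)) [LocallyOfFiniteType f] [CompactSpace X] :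
    ∃ n : ℕ, ∀ x : X, sdim f x ≤ n := by
  classical
  haveI := noetherianSpace_of_finiteType f
  obtain ⟨F, hF⟩ := exists_finite_generic (X := X) isClosed_univ
  refine ⟨F.sup (sdim f), fun x => ?_⟩
  obtain ⟨g, hg, hgx⟩ := (hF x).1 trivial
  refine le_trans ?_ (Finset.le_sup hg)
  by_cases he : g = x
  · rw [he]
  · exact (sdim_lt_of_specializes f hgx he).le

variable {G X : Over (Spec (CommRingCat.of k))} [GrpObj G] [LocallyOfFiniteType G.hom] [QuasiCompact G.hom]
  [LocallyOfFiniteType X.hom] [QuasiCompact X.hom] (a : AlgGrp.Action G X)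

/-- The boundary of an orbit is closed. -/
theorem isClosed_boundary (x : 𝟙_ (Over (Spec (CommRingCat.of k))) ⟶ X) :
    IsClosed (closure (Set.range (a.orbitMap x).left) \ Set.range (a.orbitMap x).left) := by
  exact isOpen_compl_iff.1 (isLocallyClosed_range_orbitMap a x).isOpen_coborder

/-- The boundary of an orbit has smaller dimension. -/
theorem dim_lt {x : 𝟙_ (Over (Spec (CommRingCat.of k))) ⟶ X} {T : Set X.left} (hT : IsLocallyClosed T)
    (hTB : T ⊆ closure (Set.range (a.orbitMap x).left) \ Set.range (a.orbitMap x).left) :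
    topologicalKrullDim T < topologicalKrullDim (Set.range (a.orbitMap x).left) := by
  classical
  haveI : CompactSpace X.left := (quasiCompact_iff_compactSpace X.hom).1 inferInstance
  haveI := noetherianSpace_of_finiteType X.hom
  set O := Set.range (a.orbitMap x).left with hOdef
  have hO := isLocallyClosed_range_orbitMap a x
  obtain ⟨n, hn⟩ := exists_bound X.hom
  have hdO := dim_eq_iSup X.hom hO
  obtain ⟨F, hF⟩ := exists_finite_generic (X := X.left) (isClosed_closure (s := O))
  have hFO : ∀ g ∈ F, (∀ g' ∈ F, g' ⤳ g → g' = g) → g ∈ O := by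
    intro g hg hmax
    by_contra hgO
    have hgc : g ∈ closure O := (hF g).2 ⟨g, hg, specializes_rfl⟩
    -- the other generic points' closures cover `O`
    let C : Set X.left := ⋃ g' ∈ F.erase g, closure {g'}
    have hC : IsClosed C := (F.erase g).finite_toSet.isClosed_biUnion fun _ _ => isClosed_closure
    by_cases hsub : O ⊆ C
    · obtain ⟨g', hg', h⟩ := Set.mem_iUnion₂.1 (closure_minimal hsub hC hgc)
      obtain ⟨hne, hgF⟩ := Finset.mem_erase.1 hg'
      exact hne (hmax g' hgF (specializes_iff_mem_closure.2 h))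
    · obtain ⟨z, hzO, hzC⟩ := Set.not_subset.1 hsub
      obtain ⟨g', hg', hgz⟩ := (hF z).1 (subset_closure hzO)
      by_cases he : g' = g
      · subst he
        obtain ⟨U, C', hU, hC', hOe⟩ := hO
        have h1 : g' ∈ U := hgz.mem_open hU (hOe.le hzO).1
        have h2 : g' ∈ C' := closure_minimal (fun _ h => (hOe.le h).2) hC' hgc
        exact hgO (hOe.ge ⟨h1, h2⟩)
      · exact hzC (Set.mem_iUnion₂.2 ⟨g', Finset.mem_erase.2 ⟨he, hg'⟩, specializes_iff_mem_closure.1 hgz⟩)
  have key : ∀ z ∈ T, ∃ w ∈ O, sdim X.hom z < sdim X.hom w := by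
    intro z hz
    obtain ⟨g, hg, hgz⟩ := (hF z).1 (hTB hz).1
    let S := F.filter fun g' => g' ⤳ g
    obtain ⟨g₀, hg₀, hmax⟩ := S.exists_max_image (sdim X.hom) ⟨g, Finset.mem_filter.2 ⟨hg, specializes_rfl⟩⟩
    obtain ⟨hg₀F, hg₀g⟩ := Finset.mem_filter.1 hg₀
    have hgO : g₀ ∈ O := hFO g₀ hg₀F fun g' hg' h => by
      by_contra hne
      exact absurd (hmax g' (Finset.mem_filter.2 ⟨hg', h.trans hg₀g⟩))
        (not_le.2 (sdim_lt_of_specializes X.hom h hne))
    exact ⟨g₀, hgO, sdim_lt_of_specializes X.hom (hg₀g.trans hgz) fun e => (hTB hz).2 (e ▸ hgO)⟩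
  rw [dim_eq_iSup X.hom hT, hdO]
  rcases T.eq_empty_or_nonempty with rfl | hne
  · rw [iSup_of_empty]
    exact lt_of_lt_of_le (WithBot.bot_lt_coe (0 : ℕ∞)) (le_iSup_of_le
      (⟨(a.orbitMap x).left ((η[G]).left (IsLocalRing.closedPoint k)), ⟨_, rfl⟩⟩ : O) (by exact_mod_cast Nat.zero_le _))
  · obtain ⟨m, hm⟩ : ∃ m, IsGreatest ((fun z => sdim X.hom z) '' T) m :=
      ⟨_, Nat.sSup_mem (hne.image _) ⟨n, by rintro _ ⟨z, -, rfl⟩; exact hn z⟩,
        fun b hb => le_csSup ⟨n, by rintro _ ⟨z, -, rfl⟩; exact hn z⟩ hb⟩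
    obtain ⟨z, hz, hzm⟩ := hm.1
    obtain ⟨w, hw, hzw⟩ := key z hz
    refine lt_of_le_of_lt (b := ((m : ℕ) : WithBot ℕ∞)) (iSup_le fun t => ?_) ?_
    · exact_mod_cast hm.2 ⟨t, t.2, rfl⟩
    · refine lt_of_lt_of_le ?_ (le_iSup_of_le (⟨w, hw⟩ : O) le_rfl)
      exact_mod_cast (show m < sdim X.hom w from hzm ▸ hzw)

variable [IsAlgClosed k]

/-- The boundary of an orbit contains the orbits of its rational points. -/
theorem range_subset_boundary (x y : 𝟙_ (Over (Spec (CommRingCat.of k))) ⟶ X)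
    (hy : y.left (IsLocalRing.closedPoint k) ∈
      closure (Set.range (a.orbitMap x).left) \ Set.range (a.orbitMap x).left) :
    Set.range (a.orbitMap y).left ⊆ closure (Set.range (a.orbitMap x).left) \ Set.range (a.orbitMap x).left := by
  set O := Set.range (a.orbitMap x).left
  haveI : JacobsonSpace G.left := LocallyOfFiniteType.jacobsonSpace (Y := Spec _) G.hom
  have hinv : ∀ (c : 𝟙_ (Over (Spec (CommRingCat.of k))) ⟶ G) (p : X.left), (tr a c).left p ∈ O → p ∈ O := by
    rintro c p ⟨g, hg⟩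
    have e := apply_comp_left (a.orbitMap x) (tr a c⁻¹) _ (tr_equivariant (orbitMap_equivariant a x) c⁻¹).symm g
    rw [hg, apply_comp_left (tr a c) (tr a c⁻¹) (𝟙 X) (tr_inv a c)] at e
    exact ⟨(tr (mulAction G) c⁻¹).left g, e.symm⟩
  have hmem : ∀ (c : 𝟙_ (Over (Spec (CommRingCat.of k))) ⟶ G) (p : X.left), p ∈ O → (tr a c).left p ∈ O := by
    rintro c _ ⟨g, rfl⟩
    exact ⟨(tr (mulAction G) c).left g,
      (apply_comp_left (a.orbitMap x) (tr a c) _ (tr_equivariant (orbitMap_equivariant a x) c).symm g).symm⟩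
  rintro _ ⟨g, rfl⟩
  refine closure_minimal ?_ ((isClosed_boundary a x).preimage (a.orbitMap y).left.continuous)
    (closure_closedPoints.ge (Set.mem_univ g))
  intro g hg
  obtain ⟨c, hc⟩ := OrbitTop19.exists_point G g hg
  have e : (a.orbitMap y).left g = (tr a c).left (y.left (IsLocalRing.closedPoint k)) := by
    rw [← hc]
    refine (apply_comp_left c (a.orbitMap y) _ ?_ _).trans (apply_comp_left y (tr a c) _ rfl _).symm
    show c ≫ lift (𝟙 G) (toUnit G ≫ y) ≫ a.act = y ≫ tr a c
    rw [comp_tr, ← Category.assoc, comp_lift, Category.comp_id, ← Category.assoc, comp_toUnit,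
      Subsingleton.elim (toUnit (𝟙_ _)) (𝟙 _), Category.id_comp, Category.id_comp]
  rw [Set.mem_preimage]
  rw [e]
  exact ⟨map_mem_closure (tr a c).left.continuous hy.1 (hmem c), fun h => hy.2 (hinv c _ h)⟩

/-- An orbit of minimal dimension is closed. -/
theorem isClosed_of_minimal (x : 𝟙_ (Over (Spec (CommRingCat.of k))) ⟶ X)
    (hmin : ∀ y : 𝟙_ (Over (Spec (CommRingCat.of k))) ⟶ X,
      topologicalKrullDim (Set.range (a.orbitMap x).left) ≤ topologicalKrullDim (Set.range (a.orbitMap y).left)) :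
    IsClosed (Set.range (a.orbitMap x).left) := by
  haveI : JacobsonSpace X.left := LocallyOfFiniteType.jacobsonSpace (Y := Spec _) X.hom
  rcases (closure (Set.range (a.orbitMap x).left) \ Set.range (a.orbitMap x).left).eq_empty_or_nonempty with h | h
  · exact closure_subset_iff_isClosed.1 (Set.diff_eq_empty.1 h)
  · obtain ⟨p, hp, hpc⟩ := nonempty_inter_closedPoints h (isClosed_boundary a x).isLocallyClosed
    obtain ⟨y, hy⟩ := OrbitTop19.exists_point X p hpc
    exact absurd (hmin y) (not_le.2 (dim_lt a (isLocallyClosed_range_orbitMap a y)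
      (range_subset_boundary a x y (by rw [hy]; exact hp))))

/-- A closed orbit exists. -/
theorem exists_isClosed [Nonempty X.left] : ∃ x : 𝟙_ (Over (Spec (CommRingCat.of k))) ⟶ X,
    IsClosed (Set.range (a.orbitMap x).left) := by
  haveI : JacobsonSpace X.left := LocallyOfFiniteType.jacobsonSpace (Y := Spec _) X.hom
  obtain ⟨p, -, hpc⟩ := nonempty_inter_closedPoints (Set.univ_nonempty (α := X.left)) isClosed_univ.isLocallyClosed
  obtain ⟨y, -⟩ := OrbitTop19.exists_point X p hpc
  obtain ⟨_, ⟨x, rfl⟩, hx⟩ := wellFounded_lt.has_min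
    (Set.range fun x : 𝟙_ (Over (Spec (CommRingCat.of k))) ⟶ X =>
      topologicalKrullDim (Set.range (a.orbitMap x).left)) ⟨_, ⟨y, rfl⟩⟩
  exact ⟨x, isClosed_of_minimal a x fun z => not_lt.1 (hx _ ⟨z, rfl⟩)⟩

end Groth.Agent.OrbitDim19
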