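import Groth.Agent.Lib.OrbitTop19.Smooth
import Groth.Agent.Lib.OrbitTop19.Descend
import Groth.Agent.Lib.OrbitTop19.Flat
import Groth.Agent.Lib.AlgSpRel14.FlatDim
import Mathlib.AlgebraicGeometry.Morphisms.Immersion

/-! # dim G = dim orbit + dim stabiliser. -/

set_option autoImplicit false
set_option linter.style.haveILetI false
set_option backward.isDefEq.respectTransparency.types false
universe u

open CategoryTheory CategoryTheory.Limits MonoidalCategory CartesianMonoidalCategory MonObj AlgebraicGeometry Topology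
open Groth.Agent.OrbitTop19

namespace Groth.Agent.OrbitDim19

variable {k : Type u} [Field k]

/-- With automorphisms transitive on closed points, every closed local ring has the full dimension. -/
theorem dim_eq_stalk {P : Scheme.{u}} [JacobsonSpace P]
    (htr : ∀ z z' : P, IsClosed ({z} : Set P) → IsClosed ({z'} : Set P) → ∃ θ : P ⟶ P, IsIso θ ∧ θ z = z')
    (z : P) (hz : IsClosed ({z} : Set P)) : topologicalKrullDim P = ringKrullDim (P.presheaf.stalk z) := by
  refine le_antisymm ?_ (AlgSpRel14.stalkDim_le_dim P z)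
  rw [AlgSpRel14.dim_eq_iSup_stalk]
  refine iSup_le fun x => ?_
  obtain ⟨y, hy, hyc⟩ := nonempty_inter_closedPoints (X := P) (Z := closure {x}) ⟨x, subset_closure rfl⟩
    isClosed_closure.isLocallyClosed
  obtain ⟨θ, hθ, rfl⟩ := htr y z hyc hz
  rw [ringKrullDim_eq_of_ringEquiv (asIso (θ.stalkMap y)).commRingCatIsoToRingEquiv,
    ringKrullDim_stalk_eq_coheight, ringKrullDim_stalk_eq_coheight]
  exact_mod_cast Order.coheight_anti (show y ≤ x from specializes_iff_mem_closure.2 hy)

variable [IsAlgClosed k] {G X : Over (Spec (CommRingCat.of k))} [GrpObj G] [Smooth G.hom] [QuasiCompact G.hom]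
  [IsSeparated X.hom] [LocallyOfFiniteType X.hom] [QuasiCompact X.hom]

/-- The dimension formula for an orbit. -/
theorem dim_eq_orbit_add_stabilizer (a : AlgGrp.Action G X) (x : 𝟙_ (Over (Spec (CommRingCat.of k))) ⟶ X) :
    topologicalKrullDim G.left =
      topologicalKrullDim (Set.range (a.orbitMap x).left) +
        topologicalKrullDim ↥(pullback (a.orbitMap x).left x.left) := by
  haveI : LocallyOfFiniteType G.hom := inferInstance
  set f := (a.orbitMap x).left
  set s := Set.range f
  have hs : IsLocallyClosed s := isLocallyClosed_range_orbitMap a x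
  haveI : CompactSpace X.left := (quasiCompact_iff_compactSpace X.hom).1 inferInstance
  haveI : IsLocallyNoetherian X.left := LocallyOfFiniteType.isLocallyNoetherian X.hom
  -- the orbit with its reduced structure
  let I := Scheme.IdealSheafData.vanishingIdeal ⟨closure s, isClosed_closure⟩
  haveI : IsReduced I.subscheme := RedSepLib.isReduced_vanishingIdeal_subscheme _
  let U : X.left.Opens := ⟨coborder s, hs.isOpen_coborder⟩
  let V := I.subschemeι ⁻¹ᵁ U
  haveI : IsReduced V.toScheme := isReduced_of_isOpenImmersion V.ι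
  let i : (V : Scheme.{u}) ⟶ X.left := V.ι ≫ I.subschemeι
  have hri : Set.range i = s := by
    show Set.range (V.ι ≫ I.subschemeι) = _
    rw [Scheme.Hom.comp_base, TopCat.coe_comp, Set.range_comp, Scheme.Opens.range_ι]
    show I.subschemeι '' (I.subschemeι ⁻¹' coborder s) = _
    rw [Set.image_preimage_eq_inter_range, I.range_subschemeι, Scheme.IdealSheafData.coe_support_vanishingIdeal]
    exact coborder_inter_closure
  haveI : IsImmersion i := inferInstance
  clear_value i
  let O : Over (Spec (CommRingCat.of k)) := Over.mk (i ≫ X.hom)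
  let iO : O ⟶ X := Over.homMk i rfl
  haveI : IsReduced O.left := ‹IsReduced V.toScheme›
  haveI : IsImmersion iO.left := (inferInstance : IsImmersion i)
  haveI : LocallyOfFiniteType O.hom := (inferInstance : LocallyOfFiniteType (i ≫ X.hom))
  haveI : IsLocallyNoetherian O.left := LocallyOfFiniteType.isLocallyNoetherian O.hom
  haveI : IsLocallyNoetherian (V : Scheme.{u}) := ‹IsLocallyNoetherian O.left›
  haveI : IsReduced G.left := isReduced_of_smooth G.hom
  haveI : IsLocallyNoetherian G.left := LocallyOfFiniteType.isLocallyNoetherian G.hom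
  haveI : CompactSpace G.left := (quasiCompact_iff_compactSpace G.hom).1 inferInstance
  haveI : JacobsonSpace G.left := LocallyOfFiniteType.jacobsonSpace (Y := Spec _) G.hom
  haveI : JacobsonSpace O.left := LocallyOfFiniteType.jacobsonSpace (Y := Spec _) O.hom
  obtain ⟨g, hg⟩ := exists_lift_immersion f i hri.ge
  haveI : LocallyOfFiniteType g := by
    haveI : LocallyOfFiniteType (g ≫ i ≫ X.hom) := by
      rw [← Category.assoc, hg, Over.w]; infer_instance
    exact locallyOfFiniteType_of_comp g (i ≫ X.hom)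
  have hsurj : Function.Surjective g := fun w => by
    obtain ⟨p, hp⟩ := hri.le ⟨w, rfl⟩
    exact ⟨p, i.isEmbedding.injective (by rw [← Scheme.Hom.comp_apply, hg]; exact hp)⟩
  haveI : Surjective g := ⟨hsurj⟩
  -- translations of the orbit
  have hstab : ∀ δ : 𝟙_ (Over (Spec (CommRingCat.of k))) ⟶ G,
      ∃ u : O.left ⟶ O.left, IsIso u ∧ u ≫ i = i ≫ (tr a δ).left ∧ g ≫ u = (tr (mulAction G) δ).left ≫ g := by
    have h0 : ∀ δ : 𝟙_ (Over (Spec (CommRingCat.of k))) ⟶ G, ∃ u : O.left ⟶ O.left, u ≫ i = i ≫ (tr a δ).left := by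
      intro δ
      refine exists_lift_immersion _ i ?_
      rintro _ ⟨w, rfl⟩
      obtain ⟨p, hp⟩ := hri.le ⟨w, rfl⟩
      refine hri.ge ⟨(tr (mulAction G) δ).left p, ?_⟩
      rw [apply_comp_left _ _ _ (tr_equivariant (orbitMap_equivariant a x) δ) p,
        ← apply_comp_left (a.orbitMap x) (tr a δ) _ rfl p, hp, Scheme.Hom.comp_apply]
    intro δ
    obtain ⟨u, hu⟩ := h0 δ
    obtain ⟨v, hv⟩ := h0 δ⁻¹
    refine ⟨u, ⟨v, ?_, ?_⟩, hu, ?_⟩
    · rw [← cancel_mono i, Category.assoc, hv, reassoc_of% hu, ← Over.comp_left, tr_inv]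
      simp
    · rw [← cancel_mono i, Category.assoc, hu, reassoc_of% hv, ← Over.comp_left, inv_tr]
      simp
    · rw [← cancel_mono i, Category.assoc, hu, Category.assoc, hg, reassoc_of% hg, ← Over.comp_left,
        ← Over.comp_left, tr_equivariant (orbitMap_equivariant a x) δ]
  have hG : ∀ z z' : G.left, IsClosed ({z} : Set G.left) → IsClosed ({z'} : Set G.left) →
      ∃ c, (tr (mulAction G) c).left z = z' := by
    intro z z' hz hz'
    obtain ⟨p, hp⟩ := exists_point G z hz
    obtain ⟨q, hq⟩ := exists_point G z' hz'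
    obtain ⟨c, hc⟩ := isTransitive_mul p q
    exact ⟨c, by rw [← hp, apply_comp_left p (tr (mulAction G) c) q hc, hq]⟩
  have hO : ∀ z z' : O.left, IsClosed ({z} : Set O.left) → IsClosed ({z'} : Set O.left) →
      ∃ θ : O.left ⟶ O.left, IsIso θ ∧ θ z = z' := by
    intro z z' hz hz'
    obtain ⟨p, hp, hpc⟩ := nonempty_inter_closedPoints (X := G.left) (Z := g ⁻¹' {z})
      (by obtain ⟨p, hp⟩ := hsurj z; exact ⟨p, hp⟩) (hz.preimage g.continuous).isLocallyClosed
    obtain ⟨q, hq, hqc⟩ := nonempty_inter_closedPoints (X := G.left) (Z := g ⁻¹' {z'})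
      (by obtain ⟨q, hq⟩ := hsurj z'; exact ⟨q, hq⟩) (hz'.preimage g.continuous).isLocallyClosed
    obtain ⟨c, hc⟩ := hG p q hpc hqc
    obtain ⟨u, hu, -, hgu⟩ := hstab c
    refine ⟨u, hu, ?_⟩
    rw [← (show g p = z from hp), ← Scheme.Hom.comp_apply, hgu, Scheme.Hom.comp_apply, hc]
    exact hq
  -- flatness
  haveI hflat : Flat g := by
    haveI : Nonempty (V : Scheme.{u}) := ⟨g ((η[G]).left (IsLocalRing.closedPoint k))⟩
    haveI : CompactSpace (V : Scheme.{u}) := ⟨by rw [← hsurj.range_eq]; exact isCompact_range g.continuous⟩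
    haveI := VarDim.locallyOfFinitePresentation_of_locallyNoetherian g
    haveI : QuasiCompact g := inferInstance
    obtain ⟨W, hW, ⟨w₀, hw₀⟩, hflat⟩ := exists_open_flat g
    obtain ⟨W', hW', hWW'⟩ := i.isEmbedding.isInducing.isOpen_iff.1 hW
    refine (Flat.iff_flat_stalkMap _).2 fun p => ?_
    obtain ⟨p₀, hp₀⟩ := hsurj w₀
    obtain ⟨c, hc⟩ := exists_translate (f := a.orbitMap x) (a := mulAction G) (b := a) isTransitive_mul
      (orbitMap_equivariant a x) hW' ⟨p₀, by
        show f p₀ ∈ W'
        rw [← hg, Scheme.Hom.comp_apply, hp₀]; exact hWW'.ge hw₀⟩ p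
    obtain ⟨u, hu, hui, hgu⟩ := hstab c
    haveI : IsIso (tr (mulAction G) c).left := inferInstanceAs (IsIso ((Over.forget _).map (trIso _ c).hom))
    refine flat_stalkMap_transfer g g (tr (mulAction G) c).left u hgu p (hflat _ ?_)
    refine hWW'.le ?_
    show i (g ((tr (mulAction G) c).left p)) ∈ W'
    rw [← Scheme.Hom.comp_apply g i, hg, apply_comp_left _ _ _ (tr_equivariant (orbitMap_equivariant a x) c) p]
    exact hc
  -- the fibre
  set z₀ := g ((η[G]).left (IsLocalRing.closedPoint k))
  have he : η[G] ≫ a.orbitMap x = x := by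
    rw [AlgGrp.Action.orbitMap, ← Category.assoc, comp_lift, Category.comp_id, ← Category.assoc,
      comp_toUnit, show η[G] = (1 : 𝟙_ (Over (Spec (CommRingCat.of k))) ⟶ G) by
        rw [Hom.one_def, Subsingleton.elim (toUnit _) (𝟙 (𝟙_ (Over (Spec (CommRingCat.of k))))), Category.id_comp],
      Subsingleton.elim (toUnit _) (𝟙 (𝟙_ (Over (Spec (CommRingCat.of k))))), Category.id_comp]
    exact AlgGrpBasic19.act_one a x
  have hz₀ : i z₀ = x.left (IsLocalRing.closedPoint k) := by
    rw [← Scheme.Hom.comp_apply g i, hg]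
    exact apply_comp_left η[G] (a.orbitMap x) x he _
  haveI : IsClosedImmersion x.left := by
    haveI : IsSeparated (X.hom) := ‹_›
    haveI : IsClosedImmersion (x.left ≫ X.hom) := by rw [Over.w x]; exact (inferInstance : IsClosedImmersion (𝟙 _))
    exact IsClosedImmersion.of_comp x.left X.hom
  have hz₀c : IsClosed ({z₀} : Set O.left) := by
    have h1 : IsClosed ({x.left (IsLocalRing.closedPoint k)} : Set X.left) := by
      have := x.left.isClosedEmbedding.isClosedMap Set.univ isClosed_univ
      rwa [Set.image_univ, show Set.range x.left = {x.left (IsLocalRing.closedPoint k)} from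
        Set.eq_singleton_iff_unique_mem.2 ⟨⟨_, rfl⟩, by
          rintro _ ⟨w, rfl⟩; exact congrArg x.left (Subsingleton.elim (α := PrimeSpectrum k) w _)⟩] at this
    have h2 : ({z₀} : Set O.left) = i ⁻¹' {x.left (IsLocalRing.closedPoint k)} := by
      ext w
      refine ⟨fun h => by subst h; exact hz₀, fun h => i.isEmbedding.injective ((show i w = _ from h).trans hz₀.symm)⟩
    rw [h2]
    exact h1.preimage i.continuous
  have hF : topologicalKrullDim ↥(pullback f x.left) = topologicalKrullDim (g.fiber z₀) := by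
    have hr : Set.range (pullback.fst f x.left) = g ⁻¹' {z₀} := by
      rw [Scheme.Pullback.range_fst]
      ext p
      constructor
      · rintro ⟨w, hw⟩
        refine i.isEmbedding.injective ?_
        rw [hz₀, ← Scheme.Hom.comp_apply g i, hg, ← hw,
          Subsingleton.elim (α := PrimeSpectrum k) w (IsLocalRing.closedPoint k)]
      · rintro (hp : g p = z₀)
        exact ⟨IsLocalRing.closedPoint k, by rw [← hz₀, ← hp, ← Scheme.Hom.comp_apply, hg]⟩
    calc topologicalKrullDim ↥(pullback f x.left)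
        = topologicalKrullDim (Set.range (pullback.fst f x.left)) :=
          IsHomeomorph.topologicalKrullDim_eq _ (pullback.fst f x.left).isEmbedding.toHomeomorph.isHomeomorph
      _ = topologicalKrullDim (g ⁻¹' {z₀} : Set G.left) := by rw [hr]
      _ = topologicalKrullDim (g.fiber z₀) :=
          ((g.fiberHomeo z₀).isHomeomorph.topologicalKrullDim_eq _).symm
  -- closed points of the fibre
  obtain ⟨p₀, hp₀, hp₀c⟩ := nonempty_inter_closedPoints (X := G.left) (Z := g ⁻¹' {z₀})
    ⟨_, rfl⟩ (hz₀c.preimage g.continuous).isLocallyClosed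
  have hGdim : ∀ p : G.left, IsClosed ({p} : Set G.left) → topologicalKrullDim G.left = ringKrullDim (G.left.presheaf.stalk p) :=
    fun p hp => dim_eq_stalk (fun z z' hz hz' => by
      obtain ⟨c, hc⟩ := hG z z' hz hz'
      exact ⟨_, inferInstanceAs (IsIso ((Over.forget _).map (trIso (mulAction G) c).hom)), hc⟩) p hp
  have hOdim := dim_eq_stalk hO z₀ hz₀c
  have hOs : topologicalKrullDim s = topologicalKrullDim O.left := by
    rw [← hri]
    exact (IsHomeomorph.topologicalKrullDim_eq _ i.isEmbedding.toHomeomorph.isHomeomorph).symm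
  haveI : JacobsonSpace (g.fiber z₀) := LocallyOfFiniteType.jacobsonSpace (FibDim14.toPt g z₀)
  obtain ⟨n, hn⟩ : ∃ n : ℕ, ringKrullDim (O.left.presheaf.stalk z₀) = (n : WithBot ℕ∞) := by
    obtain ⟨n, hn⟩ := ENat.ne_top_iff_exists.1 (DimF18.coheight_ne_top z₀)
    exact ⟨n, by rw [ringKrullDim_stalk_eq_coheight, ← hn]; rfl⟩
  have hgen : ∀ (y : O.left) (z : g.fiber y) (p : G.left), g.fiberι y z = p → g p = y →
      ringKrullDim ((g.fiber y).presheaf.stalk z) = ringKrullDim ((g.fiber (g p)).presheaf.stalk (g.asFiber p)) := by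
    rintro y z p hzp rfl
    rw [(g.fiberι (g p)).isEmbedding.injective (hzp.trans (g.fiberι_asFiber p).symm)]
  have key : ∀ z : g.fiber z₀, IsClosed ({z} : Set (g.fiber z₀)) →
      ∃ b : ℕ, ringKrullDim ((g.fiber z₀).presheaf.stalk z) = (b : WithBot ℕ∞) ∧
        topologicalKrullDim G.left = ((n + b : ℕ) : WithBot ℕ∞) := by
    intro z hz
    have hp : IsClosed ({g.fiberι z₀ z} : Set G.left) := by
      have h1 := (g.fiberι z₀).isEmbedding
      have h2 : IsClosed (Set.range (g.fiberι z₀)) := by
        rw [Scheme.Hom.range_fiberι]; exact hz₀c.preimage g.continuous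
      have := (IsClosedEmbedding.mk h1 h2).isClosedMap _ hz
      rwa [Set.image_singleton] at this
    have hpz : g (g.fiberι z₀ z) = z₀ := (Scheme.Hom.range_fiberι g z₀).le ⟨z, rfl⟩
    obtain ⟨b, hb, hb'⟩ := AlgSpRel14.stalkDim_of_flat g (g.fiberι z₀ z)
    have h0 : FibDim14.rd g (g.fiberι z₀ z) = 0 := by
      rw [FibDim14.rd_fiberι]
      exact (VarDim.sdim_eq_zero_iff_isClosed _ z).2 hz
    refine ⟨b, ?_, ?_⟩
    · rw [hgen _ z _ rfl hpz]
      rw [h0, Nat.add_zero, FibDim14.localDim_asFiber_eq, h0, Nat.cast_zero, add_zero] at hb'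
      exact hb'
    · rw [hGdim _ hp, hb, hpz, Nat.cast_add]
      exact congrArg (· + _) hn
  obtain ⟨z₁, -, hz₁⟩ : ((Set.univ : Set (g.fiber z₀)) ∩ closedPoints (g.fiber z₀)).Nonempty :=
    nonempty_inter_closedPoints ⟨(g.fiberHomeo z₀).symm ⟨p₀, hp₀⟩, trivial⟩ isClosed_univ.isLocallyClosed
  haveI : IsLocallyNoetherian (g.fiber z₀) := LocallyOfFiniteType.isLocallyNoetherian (FibDim14.toPt g z₀)
  obtain ⟨b, hb, hGb⟩ := key z₁ hz₁
  suffices h : topologicalKrullDim (g.fiber z₀) = (b : WithBot ℕ∞) by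
    rw [hOs, hF, hGb, hOdim, hn, h, Nat.cast_add]
  refine le_antisymm ?_ (hb ▸ AlgSpRel14.stalkDim_le_dim _ z₁)
  rw [AlgSpRel14.dim_eq_iSup_stalk]
  refine iSup_le fun w => ?_
  obtain ⟨y, hy, hyc⟩ := nonempty_inter_closedPoints (X := g.fiber z₀) (Z := closure {w}) ⟨w, subset_closure rfl⟩
    isClosed_closure.isLocallyClosed
  obtain ⟨b', hb'', hGb'⟩ := key y hyc
  have hbb : b' = b := by
    have : n + b' = n + b := by exact_mod_cast hGb'.symm.trans hGb
    omega
  refine le_trans ?_ (le_of_eq (hb''.trans (by rw [hbb])))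
  rw [ringKrullDim_stalk_eq_coheight, ringKrullDim_stalk_eq_coheight]
  exact_mod_cast Order.coheight_anti (show y ≤ w from specializes_iff_mem_closure.2 hy)

end Groth.Agent.OrbitDim19
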